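import Cfsg.Agent.H859.P4.Gam

/-!
# S5210, Q1 for odd `p` (helper859)
-/

set_option autoImplicit false

namespace Cfsg.Agent.H859.P4

open Cfsg Cfsg.FusionSystem
open Cfsg.Agent.H756.PU (HypK NormAut)
open Cfsg.Agent.H776.P4

universe u

variable {K : Type u} [Field K] [StarRing K] {p n : ℕ} {Γ : Subgroup (MulAut (PQ K))} {D : Subgroup (MulAut (PG K))}

/-- (Frattini) `Γ = Γ₀ N_Γ(A)` -/
theorem frattini (h : HypK K p n) (H : FH K) (hP : ParP p (PQ K) Γ D) {γ : MulAut (PQ K)} (hγ : γ ∈ Γ) :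
    ∃ l ∈ G0 Γ, NormAut (⊤ : Subgroup (PG K)) (l⁻¹ * γ) := by
  have := finAut H
  have : Fact p.Prime := ⟨h.pp⟩
  set A := autInducedBy ⊤ (PQ K) with hA
  have hAG : A ≤ G0 Γ := fun x hx => ⟨hP.indu hx, (A_form hx).1⟩
  have hAp : IsPGroup p A := by
    rw [hA, ← HH_eq h H hP]; exact isP h H Γ
  have hAp0 : IsPGroup p (A.subgroupOf (G0 Γ)) := hAp.comap_of_injective (G0 Γ).subtype (Subgroup.subtype_injective _)
  obtain ⟨S₁, hS₁⟩ := hAp0.exists_le_sylow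
  -- `S₁ = A`
  have hS1A : ∀ x : G0 Γ, x ∈ S₁ → (x : MulAut (PQ K)) ∈ A := by
    have hp : IsPGroup p ((S₁ : Subgroup (G0 Γ)).map (G0 Γ).subtype) := S₁.2.map _
    obtain ⟨g, _, hg⟩ := hP.syl _ (by
      rintro _ ⟨x, _, rfl⟩
      exact x.2.1) hp
    have hle : A ≤ (S₁ : Subgroup (G0 Γ)).map (G0 Γ).subtype := fun x hx =>
      ⟨⟨x, hAG hx⟩, hS₁ (Subgroup.mem_subgroupOf.2 hx), rfl⟩
    have heq : A = (S₁ : Subgroup (G0 Γ)).map (G0 Γ).subtype := by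
      refine Subgroup.eq_of_le_of_card_ge hle ?_
      exact Nat.card_le_card_of_injective (fun x : (S₁ : Subgroup (G0 Γ)).map (G0 Γ).subtype => (⟨g * x * g⁻¹, hg x x.2⟩ : A)) (by
        intro x y hxy
        have h1 : g * (x : MulAut (PQ K)) * g⁻¹ = g * (y : MulAut (PQ K)) * g⁻¹ := congrArg Subtype.val hxy
        exact Subtype.ext (mul_left_cancel (mul_right_cancel h1)))
    intro x hx
    rw [heq]
    exact ⟨x, hx, rfl⟩
  -- the conjugate
  have hBp : IsPGroup p ((A.map (MulAut.conj γ).toMonoidHom).subgroupOf (G0 Γ)) :=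
    (hAp.map _).comap_of_injective (G0 Γ).subtype (Subgroup.subtype_injective _)
  obtain ⟨S₂, hS₂⟩ := hBp.exists_le_sylow
  obtain ⟨l, hl⟩ := MulAction.exists_smul_eq (G0 Γ) S₁ S₂
  refine ⟨l, l.2, fun x hx => ?_⟩
  have h1 : γ * x * γ⁻¹ ∈ G0 Γ := ⟨Γ.mul_mem (Γ.mul_mem hγ (hP.indu hx)) (Γ.inv_mem hγ), TZ_cj H (A_form hx).1⟩
  have h2 : (⟨γ * x * γ⁻¹, h1⟩ : G0 Γ) ∈ S₂ := hS₂ (Subgroup.mem_subgroupOf.2 ⟨x, hx, rfl⟩)
  rw [← hl] at h2
  have h3 : l⁻¹ * (⟨γ * x * γ⁻¹, h1⟩ : G0 Γ) * (l⁻¹)⁻¹ ∈ S₁ := by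
    have h4 : (⟨γ * x * γ⁻¹, h1⟩ : G0 Γ) ∈ (l • S₁ : Sylow p (G0 Γ)).1 := h2
    rw [Sylow.smul_def, Sylow.pointwise_smul_def] at h4
    obtain ⟨y, hy, hy'⟩ := h4
    have h5 : l * y * l⁻¹ = (⟨γ * x * γ⁻¹, h1⟩ : G0 Γ) := hy'
    rw [← h5]
    have h6 : l⁻¹ * (l * y * l⁻¹) * (l⁻¹)⁻¹ = y := by group
    rw [h6]
    exact hy
  have h4 := hS1A _ h3
  have h5 : (l : MulAut (PQ K))⁻¹ * γ * x * ((l : MulAut (PQ K))⁻¹ * γ)⁻¹ =
      ((l⁻¹ * (⟨γ * x * γ⁻¹, h1⟩ : G0 Γ) * (l⁻¹)⁻¹ : G0 Γ) : MulAut (PQ K)) := by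
    push_cast
    group
  rw [h5]
  exact h4

theorem norm_mul {γ δ : MulAut (PQ K)} (h : NormAut (⊤ : Subgroup (PG K)) γ) (h' : NormAut (⊤ : Subgroup (PG K)) δ) :
    NormAut (⊤ : Subgroup (PG K)) (γ * δ) := by
  intro x hx
  have h1 : γ * δ * x * (γ * δ)⁻¹ = γ * (δ * x * δ⁻¹) * γ⁻¹ := by group
  rw [h1]
  exact h _ (h' x hx)

/-- an element of `Γ` leaving `Y` invariant normalizes `A` -/
theorem norm_of (h : HypK K p n) (H : FH K) (hP : ParP p (PQ K) Γ D) {δ : MulAut (PQ K)} (hδ : δ ∈ Γ)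
    (hC : ∀ b : K, (act δ (0, b)).1 = 0) : NormAut (⊤ : Subgroup (PG K)) δ := by
  have := H.fin
  intro x hx
  have hsurj : ∀ b : K, ∃ b' : K, act δ (0, b') = (0, b) := by
    have hinj : Function.Injective (fun b : K => (act δ (0, b)).2) := by
      intro b b' hbb
      have h1 : act δ (0, b) = act δ (0, b') := by
        ext
        · rw [hC, hC]
        · exact hbb
      exact congrArg Prod.snd (act_inj H δ h1)
    intro b
    obtain ⟨b', hb'⟩ := (Finite.injective_iff_surjective.1 hinj) b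
    refine ⟨b', ?_⟩
    ext
    · exact hC b'
    · exact hb'
  obtain ⟨hxZ, c, hc, hxa, _⟩ := A_form hx
  rw [← HH_eq h H hP]
  refine ⟨Γ.mul_mem (Γ.mul_mem hδ (hP.indu hx)) (Γ.inv_mem hδ), TZ_cj H hxZ, fun b => ?_⟩
  obtain ⟨b', hb'⟩ := hsurj b
  rw [← hb', ← act_mul H, inv_mul_cancel_right, act_mul H, hxa]
  congr 1
  ext <;> simp

/-- `L` -/
def LL (H : FH K) (Γ : Subgroup (MulAut (PQ K))) : Subgroup (Equiv.Perm (K × K)) := (G0 Γ).map (pi H)

theorem cl (h : HypK K p n) (hG : StGrp.{u}) (H : FH K) (hP : ParP p (PQ K) Γ D)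
    (hT : HasTorP D (fun t => t ^ 2) (fun t => (t * star t)⁻¹)) : CL (LL H Γ) where
  add := by
    rintro _ ⟨γ, hγ, rfl⟩ v w
    exact act_add H γ v w
  sp := by
    rintro _ ⟨γ, hγ, rfl⟩ v w
    exact act_ff γ hγ.2 v w
  rx := by
    intro c hc
    obtain ⟨ρ, hρ, hρ'⟩ := rxA hc
    exact ⟨pi H ρ, ⟨ρ, ⟨hP.indu hρ, (A_form hρ).1⟩, rfl⟩, hρ'⟩
  u1 := by
    rintro _ ⟨γ, hγ, rfl⟩ hfix
    have h1 : γ ∈ HH H Γ := ⟨hγ.1, hγ.2, hfix⟩
    rw [HH_eq h H hP] at h1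
    obtain ⟨_, c, hc, h2, _⟩ := A_form h1
    exact ⟨c, hc, h2⟩
  tor := by
    rintro t ht _ ⟨γ, hγ, rfl⟩
    have ht' : star t ≠ 0 := star_ne_zero.2 ht
    obtain ⟨α, hα⟩ := (hG h).2.2.1 (t ^ 2) ((t * star t)⁻¹) (RingEquiv.refl K) (pow_ne_zero 2 ht)
      (inv_ne_zero (mul_ne_zero ht ht')) (by rw [star_inv₀, star_mul', star_star, mul_comm])
    have hαD := hT t ht α hα
    -- the restriction
    have hαc : ∀ g : PG K, (α g).c = (t * star t)⁻¹ * g.c := fun g => hα.c g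
    have hmap : (PQ K).map α.toMonoidHom = PQ K := by
      ext g
      constructor
      · rintro ⟨e, he, rfl⟩
        have he' : e.c = 0 := he
        show (α e).c = 0
        rw [hαc, he', mul_zero]
      · intro hg
        have hg' : g.c = 0 := hg
        refine ⟨α.symm g, ?_, α.apply_symm_apply g⟩
        show (α.symm g).c = 0
        have h1 := hαc (α.symm g)
        rw [α.apply_symm_apply, hg'] at h1
        exact (mul_eq_zero.1 h1.symm).resolve_left (inv_ne_zero (mul_ne_zero ht ht'))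
    let τ : MulAut (PQ K) := (α.subgroupMap (PQ K)).trans (MulEquiv.subgroupCongr hmap)
    have hτ : IsRP α τ := fun e => rfl
    have hτΓ := hP.D_res α hαD τ hτ
    have hτa : ∀ v : K × K, act τ v = (t * t * v.1, t * t * (t * star t)⁻¹ * v.2) := by
      intro v
      have h1 : act τ v = ((α (sec v)).r, (α (sec v)).b) := rfl
      rw [h1, hα.r, hα.b]
      simp [sec, pow_two]
    refine ⟨pi H (τ * γ * τ⁻¹), ⟨τ * γ * τ⁻¹, ⟨Γ.mul_mem (Γ.mul_mem hτΓ hγ.1) (Γ.inv_mem hτΓ), TZ_cj H hγ.2⟩, rfl⟩, fun v => ?_⟩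
    rw [← hτa v, ← hτa (pi H γ v), pi_apply, pi_apply, ← act_mul H, inv_mul_cancel_right, act_mul H]

/-- the main result in coordinates: `Γ₀` acts on `Q/Z` as a group whose root subgroups are the standard ones -/
theorem coreG (h : HypK K p n) (hG : StGrp.{u}) (H : FH K) (hP : ParP p (PQ K) Γ D)
    (hT : HasTorP D (fun t => t ^ 2) (fun t => (t * star t)⁻¹)) :
    (∀ c : K, star c = c → ∃ g ∈ Γ, TZ g ∧ ∀ v : K × K, act g v = (v.1 + c * v.2, v.2)) ∧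
    ∀ l ∈ Γ, TZ l → (∀ b : K, (act l (0, b)).1 = 0) ∨
      ∃ α : K, star α = α ∧ ∀ b : K, (act l (0, b)).2 = α * (act l (0, b)).1 := by
  have hL := cl h hG H hP hT
  obtain ⟨l, hl, b, hb⟩ : ∃ l ∈ LL H Γ, ∃ b : K, (l (0, b)).1 ≠ 0 := by
    by_contra hcon
    push Not at hcon
    apply hP.nn
    intro γ hγ
    obtain ⟨l, hl, hn⟩ := frattini h H hP hγ
    have h1 := norm_of h H hP hl.1 (hcon _ ⟨l, hl, rfl⟩)
    have h2 := norm_mul h1 hn
    rwa [mul_inv_cancel_left] at h2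
  obtain ⟨h1, h2⟩ := core H hL hl hb
  refine ⟨fun c hc => ?_, fun l' hl' hZ => h2 (pi H l') ⟨l', ⟨hl', hZ⟩, rfl⟩⟩
  obtain ⟨_, ⟨g, hg, rfl⟩, hg'⟩ := h1 c hc
  exact ⟨g, hg.1, hg.2, hg'⟩

/-- the opposite root group -/
def RmG (H : FH K) (Γ : Subgroup (MulAut (PQ K))) : Subgroup (MulAut (PQ K)) where
  carrier := {γ | γ ∈ Γ ∧ ∃ c : K, star c = c ∧ ∀ v : K × K, act γ v = (v.1 + c * v.2, v.2)}
  one_mem' := ⟨Γ.one_mem, 0, star_zero _, fun v => by rw [act_one]; simp⟩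
  mul_mem' := by
    rintro a b ⟨h1, c, hc, h2⟩ ⟨k1, d, hd, k2⟩
    refine ⟨Γ.mul_mem h1 k1, c + d, by rw [star_add, hc, hd], fun v => ?_⟩
    rw [act_mul H, k2, h2]
    ext
    · simp only; ring
    · rfl
  inv_mem' := by
    rintro a ⟨h1, c, hc, h2⟩
    refine ⟨Γ.inv_mem h1, -c, by rw [star_neg, hc], fun v => act_inj H a ?_⟩
    rw [← act_mul H, mul_inv_cancel, act_one, h2]
    ext
    · simp
    · rfl

/-- (Q1) for odd `p` -/
theorem stQ1_odd (hG : StGrp.{u}) : ∀ {K : Type u} [Field K] [StarRing K] {p n : ℕ}, HypK K p n → p ≠ 2 → 3 < p ^ n →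
    ∀ (Γ : Subgroup (MulAut (PQ K))) (D : Subgroup (MulAut (PG K))), ParP p (PQ K) Γ D →
    HasTorP D (fun t => t ^ 2) (fun t => (t * star t)⁻¹) →
    ∃ Rm : Subgroup (MulAut (PQ K)), Rm ≤ Γ ∧ Inn (PQ K) ≤ Rm ∧
      (∀ d ∈ D, ∀ δ : MulAut (PQ K), IsRP d δ → ∀ y ∈ Rm, δ * y * δ⁻¹ ∈ Rm) ∧
      (∀ x ∈ autInducedBy ⊤ (PQ K), x ∉ Inn (PQ K) → ∃ y ∈ Rm,
        (∀ z, z ∈ Rm ↔ (x * y * x) * z * (x * y * x)⁻¹ ∈ autInducedBy ⊤ (PQ K)) ∧
        (∀ z, z ∈ autInducedBy ⊤ (PQ K) ↔ (x * y * x) * z * (x * y * x)⁻¹ ∈ Rm)) ∧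
      (∀ γ ∈ Γ, ∃ g ∈ autInducedBy ⊤ (PQ K) ⊔ Rm, NormAut (⊤ : Subgroup (PG K)) (g⁻¹ * γ)) ∧
      (∀ v : PQ K, (v : PG K) ∈ PY K → (∀ y ∈ Rm, ((y v : PQ K) : PG K) * (v : PG K)⁻¹ ∈ PZ K) → (v : PG K) ∈ PZ K) := by
  intro K _ _ p n h hp2 hq Γ D hP hT
  have H : FH K := fh h hp2 hq
  obtain ⟨c1, c2⟩ := coreG h hG H hP hT
  -- the swap
  have swap : ∀ x ∈ autInducedBy ⊤ (PQ K), ∀ c : K, star c = c → c ≠ 0 → (∀ v, act x v = v + c • ((0 : K), v.1)) →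
      ∃ y ∈ RmG H Γ, (∀ v : K × K, act (x * y * x) v = (-c⁻¹ * v.2, c * v.1)) := by
    intro x hx c hc hc0 hxa
    obtain ⟨y, hy, _, hya⟩ := c1 (-c⁻¹) (by rw [star_neg, star_inv₀, hc])
    refine ⟨y, ⟨hy, -c⁻¹, by rw [star_neg, star_inv₀, hc], hya⟩, fun v => ?_⟩
    rw [act_mul H, act_mul H, hxa v, hya, hxa]
    ext
    · simp only [Prod.fst_add, Prod.smul_fst, Prod.snd_add, Prod.smul_snd, smul_eq_mul]
      field_simp
      ring
    · simp only [Prod.fst_add, Prod.smul_fst, Prod.snd_add, Prod.smul_snd, smul_eq_mul]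
      field_simp
      ring
  refine ⟨RmG H Γ, fun x hx => hx.1, ?_, ?_, ?_, ?_, ?_⟩
  · intro γ hγ
    exact ⟨hP.indu (Inn_le hγ), 0, star_zero _, fun v => by rw [act_Inn hγ]; simp⟩
  · intro d hd δ hδ y hy
    obtain ⟨hyΓ, c, hc, hya⟩ := hy
    have hδΓ := hP.D_res d hd δ hδ
    obtain ⟨s, l, τ, hd'⟩ := (hG h).2.2.2.1 d (hP.D_le hd)
    have hs0 := hd'.ns
    have hl0 := hd'.nl
    have hδa : ∀ v : K × K, act δ v = (s * τ v.1, s * l * τ v.2) := by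
      intro v
      have h1 : act δ v = ((((δ (sec v) : PQ K) : PG K)).r, (((δ (sec v) : PQ K) : PG K)).b) := rfl
      rw [h1, hδ, hd'.r, hd'.b]
      rfl
    refine ⟨Γ.mul_mem (Γ.mul_mem hδΓ hyΓ) (Γ.inv_mem hδΓ), l⁻¹ * τ c, ?_, fun v => ?_⟩
    · rw [star_mul', star_inv₀, hd'.sl, ← hd'.tst, hc]
    · obtain ⟨w, rfl⟩ := (pi H δ).surjective v
      rw [pi_apply, ← act_mul H, inv_mul_cancel_right, act_mul H, hya, hδa, hδa]
      ext
      · simp only [map_add, map_mul]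
        field_simp
      · rfl
  · intro x hx hxI
    obtain ⟨hxZ, c, hc, hxa, hxI'⟩ := A_form hx
    have hc0 : c ≠ 0 := fun h0 => hxI (hxI' h0)
    obtain ⟨y, hy, hm⟩ := swap x hx c hc hc0 hxa
    refine ⟨y, hy, fun z => ?_, fun z => ?_⟩
    · constructor
      · rintro ⟨hz, d, hd, hza⟩
        have hmΓ : x * y * x ∈ Γ := Γ.mul_mem (Γ.mul_mem (hP.indu hx) hy.1) (hP.indu hx)
        refine memA h H hP (Γ.mul_mem (Γ.mul_mem hmΓ hz) (Γ.inv_mem hmΓ)) (c := -(c * c * d))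
          (by rw [star_neg, star_mul', star_mul', hc, hd]) (fun v => ?_)
        obtain ⟨w, rfl⟩ := (pi H (x * y * x)).surjective v
        rw [pi_apply, ← act_mul H, inv_mul_cancel_right, act_mul H, hza, hm, hm]
        ext
        · simp
        · simp only [Prod.snd_add, Prod.smul_snd, smul_eq_mul]
          field_simp
      · intro hz
        have hmΓ : x * y * x ∈ Γ := Γ.mul_mem (Γ.mul_mem (hP.indu hx) hy.1) (hP.indu hx)
        obtain ⟨_, d, hd, hza, _⟩ := A_form hz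
        refine ⟨?_, -(c⁻¹ * c⁻¹ * d), by rw [star_neg, star_mul', star_mul', star_inv₀, hc, hd], fun v => ?_⟩
        · have h1 := Γ.mul_mem (Γ.mul_mem (Γ.inv_mem hmΓ) (hP.indu hz)) hmΓ
          have h2 : (x * y * x)⁻¹ * (x * y * x * z * (x * y * x)⁻¹) * (x * y * x) = z := by group
          rwa [h2] at h1
        · apply act_inj H (x * y * x)
          rw [← act_mul H]
          have h2 : (x * y * x) * z = (x * y * x * z * (x * y * x)⁻¹) * (x * y * x) := by group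
          rw [h2, act_mul H, hza, hm, hm]
          ext
          · simp
          · simp only [Prod.snd_add, Prod.smul_snd, smul_eq_mul]
            field_simp
    · constructor
      · intro hz
        obtain ⟨_, d, hd, hza, _⟩ := A_form hz
        have hmΓ : x * y * x ∈ Γ := Γ.mul_mem (Γ.mul_mem (hP.indu hx) hy.1) (hP.indu hx)
        refine ⟨Γ.mul_mem (Γ.mul_mem hmΓ (hP.indu hz)) (Γ.inv_mem hmΓ), -(c⁻¹ * c⁻¹ * d),
          by rw [star_neg, star_mul', star_mul', star_inv₀, hc, hd], fun v => ?_⟩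
        obtain ⟨w, rfl⟩ := (pi H (x * y * x)).surjective v
        rw [pi_apply, ← act_mul H, inv_mul_cancel_right, act_mul H, hza, hm, hm]
        ext
        · simp only [Prod.snd_add, Prod.smul_snd, smul_eq_mul]
          field_simp
          simp
          ring
        · simp
      · rintro ⟨hz, d, hd, hza⟩
        have hmΓ : x * y * x ∈ Γ := Γ.mul_mem (Γ.mul_mem (hP.indu hx) hy.1) (hP.indu hx)
        refine memA h H hP (c := -(c * c * d)) ?_ (by rw [star_neg, star_mul', star_mul', hc, hd]) (fun v => ?_)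
        · have h1 := Γ.mul_mem (Γ.mul_mem (Γ.inv_mem hmΓ) hz) hmΓ
          have h2 : (x * y * x)⁻¹ * (x * y * x * z * (x * y * x)⁻¹) * (x * y * x) = z := by group
          rwa [h2] at h1
        · apply act_inj H (x * y * x)
          rw [← act_mul H]
          have h2 : (x * y * x) * z = (x * y * x * z * (x * y * x)⁻¹) * (x * y * x) := by group
          rw [h2, act_mul H, hza, hm, hm]
          ext
          · simp only [Prod.snd_add, Prod.smul_snd, smul_eq_mul]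
            field_simp
            ring
          · simp
  · intro γ hγ
    obtain ⟨l, hl, hn⟩ := frattini h H hP hγ
    rcases c2 l hl.1 hl.2 with h1 | ⟨α, hα, h1⟩
    · refine ⟨1, Subgroup.one_mem _, ?_⟩
      have h2 := norm_mul (norm_of h H hP hl.1 h1) hn
      rw [mul_inv_cancel_left] at h2
      rwa [inv_one, one_mul]
    · obtain ⟨x, hx, hxa⟩ := rxA (star_one K)
      obtain ⟨y, hy, hm⟩ := swap x hx 1 (star_one K) one_ne_zero hxa
      obtain ⟨a₀, ha₀, ha₀a⟩ := rxA hα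
      have hxg : x * y * x ∈ autInducedBy ⊤ (PQ K) ⊔ RmG H Γ :=
        Subgroup.mul_mem _ (Subgroup.mul_mem _ (Subgroup.mem_sup_left hx) (Subgroup.mem_sup_right hy)) (Subgroup.mem_sup_left hx)
      have hmΓ : x * y * x ∈ Γ := Γ.mul_mem (Γ.mul_mem (hP.indu hx) hy.1) (hP.indu hx)
      have hgΓ : a₀ * (x * y * x) ∈ Γ := Γ.mul_mem (hP.indu ha₀) hmΓ
      refine ⟨a₀ * (x * y * x), Subgroup.mul_mem _ (Subgroup.mem_sup_left ha₀) hxg, ?_⟩
      have h2 : NormAut (⊤ : Subgroup (PG K)) ((a₀ * (x * y * x))⁻¹ * l) := by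
        apply norm_of h H hP (Γ.mul_mem (Γ.inv_mem hgΓ) hl.1)
        intro b
        have h3 : act l (0, b) = act (a₀ * (x * y * x)) (0, -(act l (0, b)).1) := by
          rw [act_mul H, hm, ha₀a]
          ext
          · simp
          · rw [h1 b]; simp
        rw [act_mul H, h3, ← act_mul H, inv_mul_cancel, act_one]
      have h3 := norm_mul h2 hn
      have h4 : (a₀ * (x * y * x))⁻¹ * l * (l⁻¹ * γ) = (a₀ * (x * y * x))⁻¹ * γ := by group
      rwa [h4] at h3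
  · intro v hv hfix
    obtain ⟨y, hy, _, hya⟩ := c1 1 (star_one K)
    have h1 := hfix y ⟨hy, 1, star_one K, hya⟩
    have hvr : (v : PG K).r = 0 := hv.1
    have h2 : pr (y v) = act y (pr v) := (act_pr H y v).symm
    rw [hya] at h2
    have h3 : ((y v : PQ K) : PG K).r = (v : PG K).r + 1 * (v : PG K).b := congrArg Prod.fst h2
    have h4 : (((y v : PQ K) : PG K) * (v : PG K)⁻¹).r = 0 := h1.1
    rw [PG.mul_r, PG.inv_r, h3, hvr] at h4
    refine ⟨hvr, ?_, v.2⟩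
    linear_combination h4

end Cfsg.Agent.H859.P4
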