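import Cfsg.Agent.H859.P4.Core2
import Cfsg.Agent.H776.P4.Stmts

/-!
# S5210, Q1 for odd `p`: the action of the automorphisms of `Q` on `Q/Z` (helper859)
-/

set_option autoImplicit false

namespace Cfsg.Agent.H859.P4

open Cfsg Cfsg.FusionSystem
open Cfsg.Agent.H756.PU (HypK NormAut)
open Cfsg.Agent.H776.P4

universe u

variable {K : Type u} [Field K] [StarRing K]

/-- the coordinates on `Q/Z` -/
def pr (e : PQ K) : K × K := ((e : PG K).r, (e : PG K).b)

/-- a section of `pr` -/
def sec (v : K × K) : PQ K := ⟨⟨v.1, 0, v.2, 0, star_zero _, star_zero _⟩, rfl⟩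

/-- the elements of `Z` -/
def zz (a : K) (ha : star a = a) : PQ K := ⟨⟨0, a, 0, 0, ha, star_zero _⟩, rfl⟩

theorem pr_sec (v : K × K) : pr (sec v) = v := rfl

theorem pr_mul (e x : PQ K) : pr (e * x) = pr e + pr x := by
  have hx : (x : PG K).c = 0 := x.2
  ext
  · rfl
  · show ((e : PG K) * (x : PG K)).b = _
    rw [PG.mul_b, hx, mul_zero, add_zero]; rfl

theorem pr_one : pr (1 : PQ K) = 0 := rfl

theorem pr_inv (e : PQ K) : pr e⁻¹ = -pr e := by
  have h := pr_mul e e⁻¹
  rw [mul_inv_cancel, pr_one] at h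
  exact (neg_eq_of_add_eq_zero_right h.symm).symm

theorem ff_star (v w : K × K) : star (ff v w) = ff v w := by
  simp only [ff, star_sub, star_add, star_mul', star_star]; ring

/-- the commutator formula -/
theorem comm_eq (e x : PQ K) : e * x = zz (ff (pr e) (pr x)) (ff_star _ _) * (x * e) := by
  have he : (e : PG K).c = 0 := e.2
  have hx : (x : PG K).c = 0 := x.2
  apply Subtype.ext
  rw [Subgroup.coe_mul, Subgroup.coe_mul, Subgroup.coe_mul]
  ext
  · simp [zz, add_comm]
  · simp only [PG.mul_a, PG.mul_b, PG.mul_r, zz, ff, pr, he, hx]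
    ring_nf
    simp
  · simp only [PG.mul_b, PG.mul_r, zz, he, hx]
    ring
  · simp [zz, add_comm]

theorem zz_comm (a : K) (ha : star a = a) (e : PQ K) : zz a ha * e = e * zz a ha := by
  have he : (e : PG K).c = 0 := e.2
  apply Subtype.ext
  rw [Subgroup.coe_mul, Subgroup.coe_mul]
  ext
  · simp [zz]
  · simp only [PG.mul_a, zz, he]
    simp [add_comm]
  · simp only [PG.mul_b, zz, he]
    simp
  · simp [zz]

theorem zz_of (e : PQ K) (h : pr e = 0) : e = zz (e : PG K).a (e : PG K).ha := by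
  have h1 : (e : PG K).r = 0 := congrArg Prod.fst h
  have h2 : (e : PG K).b = 0 := congrArg Prod.snd h
  have h3 : (e : PG K).c = 0 := e.2
  apply Subtype.ext
  ext
  · exact h1
  · rfl
  · exact h2
  · exact h3

theorem zz_mul (a b : K) (ha : star a = a) (hb : star b = b) :
    zz a ha * zz b hb = zz (a + b) (by rw [star_add, ha, hb]) := by
  apply Subtype.ext
  rw [Subgroup.coe_mul]
  ext
  · simp [zz]
  · simp [PG.mul_a, zz]
  · simp [PG.mul_b, zz]
  · simp [zz]

theorem zz_inj {a b : K} {ha : star a = a} {hb : star b = b} (h : zz a ha = zz b hb) : a = b :=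
  congrArg (fun e : PQ K => (e : PG K).a) h

theorem central_iff (H : FH K) (e : PQ K) : (∀ x, e * x = x * e) ↔ pr e = 0 := by
  constructor
  · intro h
    apply ff_nd H
    intro w
    have h1 := comm_eq e (sec w)
    rw [h (sec w), pr_sec] at h1
    have h2 : zz (ff (pr e) w) (ff_star _ _) = 1 := right_eq_mul.1 h1
    exact zz_inj (b := 0) (hb := star_zero K) (by rw [h2]; rfl)
  · intro h x
    rw [zz_of e h, zz_comm]

theorem pr_zero (H : FH K) (γ : MulAut (PQ K)) {e : PQ K} (h : pr e = 0) : pr (γ e) = 0 := by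
  rw [← central_iff H]
  intro x
  obtain ⟨y, rfl⟩ := γ.surjective x
  rw [← map_mul, ← map_mul, (central_iff H e).2 h y]

theorem pr_congr (H : FH K) (γ : MulAut (PQ K)) {e x : PQ K} (h : pr e = pr x) : pr (γ e) = pr (γ x) := by
  have h1 : pr (x⁻¹ * e) = 0 := by rw [pr_mul, pr_inv, h, neg_add_cancel]
  have h2 := pr_zero H γ h1
  rw [map_mul, map_inv, pr_mul, pr_inv, neg_add_eq_zero] at h2
  exact h2.symm

/-- the action on `Q/Z` -/
def act (γ : MulAut (PQ K)) (v : K × K) : K × K := pr (γ (sec v))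

theorem act_pr (H : FH K) (γ : MulAut (PQ K)) (e : PQ K) : act γ (pr e) = pr (γ e) := pr_congr H γ rfl

theorem act_mul (H : FH K) (γ δ : MulAut (PQ K)) (v : K × K) : act (γ * δ) v = act γ (act δ v) := by
  rw [act, MulAut.mul_apply, ← act_pr H, act]; rfl

theorem act_one (v : K × K) : act (1 : MulAut (PQ K)) v = v := rfl

theorem act_add (H : FH K) (γ : MulAut (PQ K)) (v w : K × K) : act γ (v + w) = act γ v + act γ w := by
  rw [act, act, act, ← pr_mul, ← map_mul]
  apply pr_congr H
  rw [pr_mul]; rfl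

/-- the action as a homomorphism -/
def pi (H : FH K) : MulAut (PQ K) →* Equiv.Perm (K × K) where
  toFun γ := ⟨act γ, act γ⁻¹, fun v => by rw [← act_mul H, inv_mul_cancel, act_one],
    fun v => by rw [← act_mul H, mul_inv_cancel, act_one]⟩
  map_one' := by ext <;> rfl
  map_mul' γ δ := by
    apply Equiv.ext
    intro v
    exact act_mul H γ δ v

theorem pi_apply (H : FH K) (γ : MulAut (PQ K)) (v : K × K) : pi H γ v = act γ v := rfl

theorem act_inj (H : FH K) (γ : MulAut (PQ K)) {v w : K × K} (h : act γ v = act γ w) : v = w := (pi H γ).injective h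

/-- trivial on `Z` -/
def TZ (γ : MulAut (PQ K)) : Prop := ∀ e : PQ K, pr e = 0 → γ e = e

theorem act_ff (γ : MulAut (PQ K)) (h : TZ γ) (v w : K × K) : ff (act γ v) (act γ w) = ff v w := by
  have h1 := comm_eq (γ (sec v)) (γ (sec w))
  have h2 := congrArg γ (comm_eq (sec v) (sec w))
  rw [map_mul, map_mul, map_mul, h (zz _ _) rfl] at h2
  rw [h2] at h1
  exact (zz_inj (mul_right_cancel h1)).symm

theorem TZ_of_act (H : FH K) (γ : MulAut (PQ K)) (h : ∀ v, act γ v = v) : TZ γ := by
  intro e he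
  have h2 := H.two
  have ha := (e : PG K).ha
  set a := (e : PG K).a with haa
  have hst2 : star (2 : K) = 2 := by
    have : (2 : K) = 1 + 1 := by norm_num
    rw [this, star_add, star_one]
  have hff : ff ((1 : K), 0) (0, a / 2) = a := by
    simp only [ff, star_one, one_mul, star_div₀, ha, hst2, zero_mul, star_zero, add_zero, sub_zero]
    field_simp
    norm_num
  have h1 := comm_eq (γ (sec ((1 : K), 0))) (γ (sec (0, a / 2)))
  have h3 := congrArg γ (comm_eq (sec ((1 : K), 0)) (sec (0, a / 2)))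
  rw [map_mul, map_mul, map_mul] at h3
  rw [h3] at h1
  have h4 := mul_right_cancel h1
  have h5 : pr (γ (sec ((1 : K), 0))) = (1, 0) := h _
  have h6 : pr (γ (sec ((0 : K), a / 2))) = (0, a / 2) := h _
  have h7 : ∀ (x y : K) (hx : star x = x) (hy : star y = y), x = y → zz x hx = zz y hy := by
    intro x y hx hy hxy; subst hxy; rfl
  have h8 : e = zz (ff (pr (sec ((1 : K), 0))) (pr (sec (0, a / 2)))) (ff_star _ _) := by
    rw [zz_of e he]
    exact h7 _ _ _ _ (by rw [pr_sec, pr_sec, hff])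
  rw [h8, h4]
  exact h7 _ _ _ _ (by rw [h5, h6, pr_sec, pr_sec])

end Cfsg.Agent.H859.P4
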